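import Groth.Agent.H19Grp.AlgClosedGeom
import Mathlib

/-!
Tensor products of reduced algebras over a field (EGA IV 4.6.1).
-/

set_option autoImplicit false
set_option linter.style.haveILetI false

universe u

open TensorProduct

namespace Groth.Agent.H06Red

variable (k : Type u) [Field k]

theorem isReduced_of_subalgebras (A B : Type u) [CommRing A] [Algebra k A] [CommRing B] [Algebra k B]
    (h : ∀ (C : Type u) [CommRing C] [Algebra k C] (_ : Algebra.FiniteType k C)
      (f : C →ₐ[k] B), Function.Injective f → IsReduced (A ⊗[k] C)) :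
    IsReduced (A ⊗[k] B) :=
  IsReduced.tensorProduct_of_flat_of_forall_fg fun S hS =>
    h S ((Subalgebra.fg_iff_finiteType S).1 hS) S.val Subtype.val_injective

theorem isReduced_comm (A B : Type u) [CommRing A] [Algebra k A] [CommRing B] [Algebra k B]
    (h : IsReduced (A ⊗[k] B)) : IsReduced (B ⊗[k] A) :=
  isReduced_of_injective (Algebra.TensorProduct.comm k B A).toRingEquiv.toRingHom
    (Algebra.TensorProduct.comm k B A).injective

/-- A reduced Noetherian `B` embeds in the finite product of its quotients by minimal primes. -/
theorem isReduced_tensor_of_minimalPrimes (A B : Type u) [CommRing A] [Algebra k A] [CommRing B]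
    [Algebra k B] [IsNoetherianRing B] [IsReduced B]
    (h : ∀ p : Ideal B, p ∈ minimalPrimes B → IsReduced (A ⊗[k] (B ⧸ p))) :
    IsReduced (A ⊗[k] B) := by
  classical
  have : Finite (minimalPrimes B) := (minimalPrimes.finite_of_isNoetherianRing B).to_subtype
  have := Fintype.ofFinite (minimalPrimes B)
  let Φ : B →ₐ[k] (p : minimalPrimes B) → B ⧸ p.1 :=
    Pi.algHom k (fun p : minimalPrimes B => B ⧸ p.1) fun p => Ideal.Quotient.mkₐ k p.1
  have hΦ : Function.Injective Φ := by
    rw [injective_iff_map_eq_zero]
    intro b hb
    have : b ∈ sInf (minimalPrimes B) := by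
      rw [Ideal.mem_sInf]
      intro p hp
      exact Ideal.Quotient.eq_zero_iff_mem.1 (congrFun hb ⟨p, hp⟩)
    have h0 : b ∈ (⊥ : Ideal B).radical := by rw [← Ideal.sInf_minimalPrimes]; exact this
    exact (IsReduced.eq_zero _ (by simpa using h0))
  let M : minimalPrimes B → Type u := fun p => B ⧸ p.1
  let e : A ⊗[k] ((p : minimalPrimes B) → M p) ≃ₗ[k] ((p : minimalPrimes B) → A ⊗[k] M p) :=
    TensorProduct.piRight k k A M
  refine ⟨fun x ⟨n, hn⟩ => ?_⟩
  apply Module.Flat.lTensor_preserves_injective_linearMap (M := A) Φ.toLinearMap hΦ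
  rw [map_zero, ← LinearEquiv.map_eq_zero_iff e]
  funext p
  have : ∀ p : minimalPrimes B, IsReduced (A ⊗[k] (B ⧸ p.1)) := fun p => h p.1 p.2
  have key : ∀ z : A ⊗[k] B, e (LinearMap.lTensor A Φ.toLinearMap z) p
      = Algebra.TensorProduct.map (AlgHom.id k A) (Ideal.Quotient.mkₐ k p.1) z := by
    intro z
    induction z using TensorProduct.induction_on with
    | zero => simp
    | tmul a b => simp [e, M, Φ]
    | add x y hx hy => simp only [map_add, Pi.add_apply, hx, hy]
  rw [key]
  have := this p
  exact IsReduced.eq_zero (R := A ⊗[k] (B ⧸ p.1)) _ ⟨n, by rw [← map_pow, hn, map_zero]⟩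

/-- Over an algebraically closed field the tensor product of reduced algebras is reduced. -/
theorem isReduced_tensor_of_isAlgClosed [IsAlgClosed k] (A B : Type u) [CommRing A] [Algebra k A]
    [CommRing B] [Algebra k B] [IsReduced A] [IsReduced B] : IsReduced (A ⊗[k] B) := by
  refine isReduced_of_subalgebras k A B fun C _ _ hC f hf => ?_
  have : IsReduced C := isReduced_of_injective f hf
  have : IsNoetherianRing C := Algebra.FiniteType.isNoetherianRing k C
  refine isReduced_tensor_of_minimalPrimes k A C fun q hq => ?_
  have : q.IsPrime := hq.1.1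
  refine isReduced_comm k _ _ (isReduced_of_subalgebras k (C ⧸ q) A fun D _ _ hD g hg => ?_)
  have : IsReduced D := isReduced_of_injective g hg
  have : IsNoetherianRing D := Algebra.FiniteType.isNoetherianRing k D
  refine isReduced_tensor_of_minimalPrimes k (C ⧸ q) D fun p hp => ?_
  have : p.IsPrime := hp.1.1
  have := H19Grp.isDomain_tensorProduct (k := k) (C ⧸ q) (D ⧸ p)
  infer_instance

/-- A geometrically reduced algebra stays reduced over every field extension. -/
theorem isReduced_field_tensor (A F : Type u) [CommRing A] [Algebra k A] [Field F] [Algebra k F]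
    [Algebra.IsGeometricallyReduced k A] : IsReduced (F ⊗[k] A) := by
  let kb := AlgebraicClosure k
  let Ω := AlgebraicClosure F
  let i : kb →ₐ[k] Ω := IsAlgClosed.lift
  letI := i.toRingHom.toAlgebra
  have : IsScalarTower k kb Ω := IsScalarTower.of_algebraMap_eq fun r => (i.commutes r).symm
  have : IsReduced (Ω ⊗[kb] (kb ⊗[k] A)) := isReduced_tensor_of_isAlgClosed kb Ω (kb ⊗[k] A)
  have : IsReduced (Ω ⊗[k] A) :=
    isReduced_of_injective (Algebra.TensorProduct.cancelBaseChange k kb kb Ω A).symm.toRingEquiv.toRingHom
      (Algebra.TensorProduct.cancelBaseChange k kb kb Ω A).symm.injective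
  exact isReduced_of_injective (Algebra.TensorProduct.map (IsScalarTower.toAlgHom k F Ω) (AlgHom.id k A))
    (Module.Flat.rTensor_preserves_injective_linearMap _ (algebraMap F Ω).injective)

/-- Geometrically reduced tensor reduced is reduced. -/
theorem isReduced_tensor (A B : Type u) [CommRing A] [Algebra k A] [CommRing B] [Algebra k B]
    [Algebra.IsGeometricallyReduced k A] [IsReduced B] : IsReduced (A ⊗[k] B) := by
  refine isReduced_of_subalgebras k A B fun C _ _ hC f hf => ?_
  have : IsReduced C := isReduced_of_injective f hf
  have : IsNoetherianRing C := Algebra.FiniteType.isNoetherianRing k C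
  refine isReduced_tensor_of_minimalPrimes k A C fun p hp => ?_
  have : p.IsPrime := hp.1.1
  have := isReduced_field_tensor k A (FractionRing (C ⧸ p))
  refine isReduced_comm k _ _ ?_
  exact isReduced_of_injective
    (Algebra.TensorProduct.map (IsScalarTower.toAlgHom k (C ⧸ p) (FractionRing (C ⧸ p))) (AlgHom.id k A))
    (Module.Flat.rTensor_preserves_injective_linearMap _ (IsFractionRing.injective (C ⧸ p) _))

/-- Over a perfect field every reduced algebra is geometrically reduced. -/
theorem isGeometricallyReduced_of_perfectField [PerfectField k] (A : Type u) [CommRing A]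
    [Algebra k A] [IsReduced A] : Algebra.IsGeometricallyReduced k A := by
  rw [Algebra.isGeometricallyReduced_field_iff]
  refine isReduced_comm k _ _ (isReduced_of_subalgebras k A _ fun L _ _ hL f hf => ?_)
  have : IsDomain L := hf.isDomain f.toRingHom
  have : Algebra.IsIntegral k L :=
    ⟨fun x => (isIntegral_algHom_iff f hf).1 (Algebra.IsIntegral.isIntegral (f x))⟩
  letI : Field L := (isField_of_isIntegral_of_isField' (Field.toIsField k) : IsField L).toField
  have : Module.Finite k L := Algebra.IsIntegral.finite
  have : Algebra.IsSeparable k L := Algebra.IsAlgebraic.isSeparable_of_perfectField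
  have : Algebra.FormallyUnramified k L := Algebra.FormallyUnramified.of_isSeparable k L
  refine isReduced_comm k _ _ (isReduced_of_subalgebras k L A fun C _ _ hC g hg => ?_)
  have : IsReduced C := isReduced_of_injective g hg
  have : IsNoetherianRing C := Algebra.FiniteType.isNoetherianRing k C
  refine isReduced_tensor_of_minimalPrimes k L C fun p hp => ?_
  have : p.IsPrime := hp.1.1
  let F := FractionRing (C ⧸ p)
  have : IsReduced (F ⊗[k] L) := Algebra.FormallyUnramified.isReduced_of_field F _
  exact isReduced_of_injective
    ((Algebra.TensorProduct.comm k L F).toAlgHom.comp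
      (Algebra.TensorProduct.map (AlgHom.id k L) (IsScalarTower.toAlgHom k (C ⧸ p) F)))
    ((Algebra.TensorProduct.comm k L F).injective.comp
      (Module.Flat.lTensor_preserves_injective_linearMap _ (IsFractionRing.injective (C ⧸ p) _)))

end Groth.Agent.H06Red
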