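import Groth.Prelude.Def_FDesc
import Groth.Agent.H06Red.Algebra
import Groth.Agent.H06Desc.Geom
import Groth.Agent.H8Props.Reduced

/-!
Products of reduced and geometrically reduced schemes over a field (EGA IV 4.6).
-/

set_option autoImplicit false
set_option linter.style.haveILetI false

universe u

open CategoryTheory CategoryTheory.Limits AlgebraicGeometry TensorProduct

namespace Groth.Agent.H06Red

variable {k : Type u} [Field k]

theorem isReduced_Spec_pullback (A B : Type u) [CommRing A] [Algebra k A] [CommRing B] [Algebra k B]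
    [Algebra.IsGeometricallyReduced k A] [_root_.IsReduced B] :
    IsReduced (pullback (Spec.map (CommRingCat.ofHom (algebraMap k B)))
      (Spec.map (CommRingCat.ofHom (algebraMap k A)))) := by
  have : _root_.IsReduced (B ⊗[k] A) := isReduced_comm k A B (isReduced_tensor k A B)
  exact isReduced_of_isOpenImmersion (pullbackSpecIso k B A).hom

theorem isReduced_Spec_pullback' {S R : CommRingCat.{u}} (φ : CommRingCat.of k ⟶ S)
    (ψ : CommRingCat.of k ⟶ R) (hR : letI := ψ.hom.toAlgebra; Algebra.IsGeometricallyReduced k R)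
    (hS : IsReduced (Spec S)) : IsReduced (pullback (Spec.map φ) (Spec.map ψ)) := by
  letI := φ.hom.toAlgebra
  letI := ψ.hom.toAlgebra
  haveI : Algebra.IsGeometricallyReduced k R := hR
  haveI : _root_.IsReduced S := (affine_isReduced_iff S).1 hS
  exact isReduced_Spec_pullback R S

/-- The algebraic criterion for all affine opens gives reducedness of products. -/
theorem isReduced_pullback_of_forall {X Y : Scheme.{u}} (f : X ⟶ Spec (CommRingCat.of k))
    (g : Y ⟶ Spec (CommRingCat.of k)) [IsReduced X]
    (hg : ∀ (R : CommRingCat.{u}) (i : Spec R ⟶ Y) [IsOpenImmersion i] (φ : CommRingCat.of k ⟶ R),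
      Spec.map φ = i ≫ g → letI := φ.hom.toAlgebra; Algebra.IsGeometricallyReduced k R) :
    IsReduced (pullback f g) := by
  apply +allowSynthFailures @IsReduced.of_openCover
    (𝒰 := Scheme.Pullback.openCoverOfLeftRight X.affineCover Y.affineCover f g)
  intro ⟨i, j⟩
  obtain ⟨φ, hφ⟩ := Spec.map_surjective (X.affineCover.f i ≫ f)
  obtain ⟨ψ, hψ⟩ := Spec.map_surjective (Y.affineCover.f j ≫ g)
  show IsReduced (pullback (X.affineCover.f i ≫ f) (Y.affineCover.f j ≫ g))
  suffices IsReduced (pullback (Spec.map φ) (Spec.map ψ)) from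
    isReduced_of_isOpenImmersion (pullback.congrHom hφ.symm hψ.symm).hom
  exact isReduced_Spec_pullback' φ ψ (@hg _ (Y.affineCover.f j) (Y.affineCover.map_prop j) ψ hψ)
    (@isReduced_of_isOpenImmersion _ _ (X.affineCover.f i) (X.affineCover.map_prop i) _)

theorem isReduced_pullback {X Y : Scheme.{u}} (f : X ⟶ Spec (CommRingCat.of k))
    (g : Y ⟶ Spec (CommRingCat.of k)) [IsReduced X] [GeometricallyReduced g] :
    IsReduced (pullback f g) := by
  refine isReduced_pullback_of_forall f g fun R i _ φ hφ => ?_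
  letI := φ.hom.toAlgebra
  let kb := AlgebraicClosure k
  let s : Spec (CommRingCat.of kb) ⟶ Spec (CommRingCat.of k) :=
    Spec.map (CommRingCat.ofHom (algebraMap k kb))
  have : IsReduced (pullback g s) :=
    GeometricallyReduced.geometrically_isReduced _ _ _ (.of_hasPullback g s)
  have : IsReduced (pullback (Spec.map φ) s) :=
    isReduced_of_isOpenImmersion
      (pullback.map (Spec.map φ) s g s i (𝟙 _) (𝟙 _) (by simpa using hφ) (by simp))
  have : IsReduced (pullback s (Spec.map φ)) :=
    isReduced_of_isOpenImmersion (pullbackSymmetry s (Spec.map φ)).hom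
  have : IsReduced (Spec (.of (kb ⊗[k] R))) :=
    isReduced_of_isOpenImmersion (pullbackSpecIso k kb R).inv
  rw [Algebra.isGeometricallyReduced_field_iff]
  exact (affine_isReduced_iff _).1 this

theorem isReduced_pullback_symm {X Y : Scheme.{u}} (f : X ⟶ Spec (CommRingCat.of k))
    (g : Y ⟶ Spec (CommRingCat.of k)) [IsReduced Y] [GeometricallyReduced f] :
    IsReduced (pullback f g) :=
  haveI := isReduced_pullback g f
  isReduced_of_isOpenImmersion (pullbackSymmetry f g).hom

/-- Over a perfect field every reduced scheme is geometrically reduced. -/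
theorem geometricallyReduced_of_perfectField [PerfectField k] {X : Scheme.{u}}
    (f : X ⟶ Spec (CommRingCat.of k)) [IsReduced X] : GeometricallyReduced f := by
  refine ⟨geometrically_iff_of_isClosedUnderIsomorphisms.2 fun K _ y => ?_⟩
  refine isReduced_pullback_of_forall f y fun R i _ φ _ => ?_
  letI := φ.hom.toAlgebra
  have : IsReduced (Spec R) := isReduced_of_isOpenImmersion i
  haveI : _root_.IsReduced R := (affine_isReduced_iff R).1 this
  exact isGeometricallyReduced_of_perfectField k R

/-- Two points of base changes over the same point are dominated by a point of a base change to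
a common extension, flat over both. -/
theorem exists_common {Ω : Type u} [Field Ω] [Algebra k Ω] {K : Type u} [Field K] [Algebra k K]
    {X : Scheme.{u}} (f : X ⟶ Spec (CommRingCat.of k)) (x' : ↥(FBase.bc f Ω)) (x'' : ↥(FBase.bc f K))
    (hx : FBase.bcπ f K x'' = FBase.bcπ f Ω x') :
    ∃ (L : Type u) (_ : Field L) (σ : Spec (CommRingCat.of L) ⟶ Spec (CommRingCat.of Ω))
      (t : ↥(pullback (FBase.bcStr f Ω) σ)) (π : pullback (FBase.bcStr f Ω) σ ⟶ FBase.bc f K),
      pullback.fst (FBase.bcStr f Ω) σ t = x' ∧ Flat π ∧ π t = x'' := by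
  obtain ⟨z, hz₁, hz₂⟩ := Scheme.Pullback.exists_preimage_pullback
    (f := FBase.bcπ f K) (g := FBase.bcπ f Ω) x'' x' hx
  let P := pullback (FBase.bcπ f K) (FBase.bcπ f Ω)
  let c := P.fromSpecResidueField z
  let aK := c ≫ pullback.fst (FBase.bcπ f K) (FBase.bcπ f Ω)
  let aΩ := c ≫ pullback.snd (FBase.bcπ f K) (FBase.bcπ f Ω)
  let σK : Spec (P.residueField z) ⟶ Spec (CommRingCat.of K) := aK ≫ FBase.bcStr f K
  let σΩ : Spec (P.residueField z) ⟶ Spec (CommRingCat.of Ω) := aΩ ≫ FBase.bcStr f Ω
  let XL := pullback (FBase.bcStr f Ω) σΩ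
  let t₀ : Spec (P.residueField z) ⟶ XL := pullback.lift aΩ (𝟙 _) (by simp [σΩ])
  let t := t₀ (IsLocalRing.closedPoint (P.residueField z))
  have ht₁ : pullback.fst (FBase.bcStr f Ω) σΩ t = x' := by
    have : t₀ ≫ pullback.fst (FBase.bcStr f Ω) σΩ = aΩ := pullback.lift_fst _ _ _
    calc pullback.fst (FBase.bcStr f Ω) σΩ t = aΩ (IsLocalRing.closedPoint _) :=
          congr($this (IsLocalRing.closedPoint _))
      _ = x' := by
          show pullback.snd (FBase.bcπ f K) (FBase.bcπ f Ω) (c (IsLocalRing.closedPoint _)) = x'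
          rw [show c (IsLocalRing.closedPoint _) = z from Scheme.fromSpecResidueField_apply _ _, hz₂]
  -- the projection to `X_K`
  have hcomm : σΩ ≫ Spec.map (CommRingCat.ofHom (algebraMap k Ω))
      = σK ≫ Spec.map (CommRingCat.ofHom (algebraMap k K)) := by
    have w1 : FBase.bcStr f Ω ≫ Spec.map (CommRingCat.ofHom (algebraMap k Ω)) = FBase.bcπ f Ω ≫ f :=
      pullback.condition.symm
    have w2 : FBase.bcStr f K ≫ Spec.map (CommRingCat.ofHom (algebraMap k K)) = FBase.bcπ f K ≫ f :=
      pullback.condition.symm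
    have w3 := pullback.condition (f := FBase.bcπ f K) (g := FBase.bcπ f Ω)
    simp only [σΩ, σK, aΩ, aK, Category.assoc, w1, w2, reassoc_of% w3]
  let π : XL ⟶ FBase.bc f K :=
    pullback.lift (pullback.fst (FBase.bcStr f Ω) σΩ ≫ FBase.bcπ f Ω)
      (pullback.snd (FBase.bcStr f Ω) σΩ ≫ σK) (by
        show (_ ≫ pullback.fst f _) ≫ f = _
        rw [Category.assoc, pullback.condition, ← Category.assoc, Category.assoc _ σK, ← hcomm,
          ← Category.assoc, Category.assoc]
        exact (pullback.condition_assoc (f := FBase.bcStr f Ω) (g := σΩ) _).trans (Category.assoc _ _ _).symm)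
  have hπsq : IsPullback π (pullback.snd (FBase.bcStr f Ω) σΩ) (FBase.bcStr f K) σK := by
    refine IsPullback.of_right ?_ (pullback.lift_snd _ _ _) (IsPullback.of_hasPullback f _)
    rw [← hcomm, show π ≫ pullback.fst f (Spec.map (CommRingCat.ofHom (algebraMap k K)))
      = pullback.fst (FBase.bcStr f Ω) σΩ ≫ FBase.bcπ f Ω from pullback.lift_fst _ _ _]
    exact (IsPullback.of_hasPullback (FBase.bcStr f Ω) σΩ).paste_horiz (IsPullback.of_hasPullback f _)
  have : Flat σK := by
    obtain ⟨φ, hφ⟩ := Spec.map_surjective σK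
    rw [← hφ, HasRingHomProperty.Spec_iff (P := @Flat)]
    algebraize [φ.hom]
    exact RingHom.flat_algebraMap_iff.2 inferInstance
  have : Flat π := MorphismProperty.of_isPullback (P := @Flat) hπsq.flip inferInstance
  have hπt : π t = x'' := by
    have : t₀ ≫ π = aK := by
      apply pullback.hom_ext
      · refine (Category.assoc _ _ _).trans ((congrArg (t₀ ≫ ·)
          (pullback.lift_fst _ _ _ : π ≫ pullback.fst f _ = _)).trans ?_)
        show t₀ ≫ pullback.fst (FBase.bcStr f Ω) σΩ ≫ FBase.bcπ f Ω = aK ≫ FBase.bcπ f K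
        rw [pullback.lift_fst_assoc]
        simp only [aΩ, aK, Category.assoc, pullback.condition]
      · refine (Category.assoc _ _ _).trans ((congrArg (t₀ ≫ ·)
          (pullback.lift_snd _ _ _ : π ≫ pullback.snd f _ = _)).trans ?_)
        show t₀ ≫ pullback.snd (FBase.bcStr f Ω) σΩ ≫ σK = aK ≫ FBase.bcStr f K
        rw [pullback.lift_snd_assoc, Category.id_comp]
    calc π t = aK (IsLocalRing.closedPoint _) := congr($this (IsLocalRing.closedPoint _))
      _ = x'' := by
          show pullback.fst (FBase.bcπ f K) (FBase.bcπ f Ω) (c (IsLocalRing.closedPoint _)) = x''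
          rw [show c (IsLocalRing.closedPoint _) = z from Scheme.fromSpecResidueField_apply _ _, hz₁]
  exact ⟨_, inferInstance, σΩ, t, π, ht₁,
    MorphismProperty.of_isPullback (P := @Flat) hπsq.flip inferInstance, hπt⟩

/-- The stalk at `t` of a base change of `Y` is the stalk of the base change of `Spec O_{Y,x}`. -/
theorem exists_stalk_point {L : Type u} [Field L] {Y S : Scheme.{u}} (g : Y ⟶ S)
    (σ : Spec (CommRingCat.of L) ⟶ S) (t : ↥(pullback g σ)) (x : Y)
    (ht : pullback.fst g σ t = x) :
    ∃ (e : ↥(pullback (Y.fromSpecStalk x ≫ g) σ))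
      (φ : (pullback g σ).presheaf.stalk t →+* (pullback (Y.fromSpecStalk x ≫ g) σ).presheaf.stalk e),
      Function.Bijective φ := by
  let j := Y.fromSpecStalk x
  let jL : pullback (j ≫ g) σ ⟶ pullback g σ :=
    pullback.map (j ≫ g) σ g σ j (𝟙 _) (𝟙 _) (by simp) (by simp)
  have hsq : IsPullback jL (pullback.fst (j ≫ g) σ) (pullback.fst g σ) j := by
    refine IsPullback.of_right ?_ (pullback.lift_fst _ _ _) (IsPullback.of_hasPullback _ σ).flip
    rw [show jL ≫ pullback.snd g σ = pullback.snd (j ≫ g) σ from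
      (pullback.lift_snd _ _ _).trans (Category.comp_id _)]
    exact (IsPullback.of_hasPullback (j ≫ g) σ).flip
  have : IsPreimmersion jL := MorphismProperty.of_isPullback (P := @IsPreimmersion) hsq.flip inferInstance
  have : Flat jL := MorphismProperty.of_isPullback (P := @Flat) hsq.flip inferInstance
  obtain ⟨q, hq₁, -⟩ := Scheme.Pullback.exists_preimage_pullback
    (f := pullback.fst g σ) (g := j) t (IsLocalRing.closedPoint _)
    (ht.trans Scheme.fromSpecStalk_closedPoint.symm)
  have he : jL (hsq.isoPullback.inv q) = t := by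
    rw [← Scheme.Hom.comp_apply, hsq.isoPullback_inv_fst, hq₁]
  subst he
  exact ⟨_, (jL.stalkMap _).hom, H8Props.bijective_stalkMap_of_flat jL _ (Flat.stalkMap jL _)⟩

/-- Pointwise version over a perfect overfield. -/
theorem isReduced_stalk_of_perfectField {Ω : Type u} [Field Ω] [Algebra k Ω] [PerfectField Ω]
    {X : Scheme.{u}} (f : X ⟶ Spec (CommRingCat.of k)) (x' : ↥(FBase.bc f Ω))
    (h : _root_.IsReduced ((FBase.bc f Ω).presheaf.stalk x'))
    (K : Type u) [Field K] [Algebra k K] (x'' : ↥(FBase.bc f K))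
    (hx : FBase.bcπ f K x'' = FBase.bcπ f Ω x') :
    _root_.IsReduced ((FBase.bc f K).presheaf.stalk x'') := by
  obtain ⟨L, _, σ, t, π, ht, _, rfl⟩ := exists_common f x' x'' hx
  obtain ⟨e, φ, hφ⟩ := exists_stalk_point (FBase.bcStr f Ω) σ t x' ht
  have : IsReduced (Spec ((FBase.bc f Ω).presheaf.stalk x')) := (affine_isReduced_iff _).2 h
  haveI := geometricallyReduced_of_perfectField ((FBase.bc f Ω).fromSpecStalk x' ≫ FBase.bcStr f Ω)
  haveI : IsReduced (pullback ((FBase.bc f Ω).fromSpecStalk x' ≫ FBase.bcStr f Ω) σ) :=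
    GeometricallyReduced.geometrically_isReduced _ _ _ (.of_hasPullback _ _)
  haveI : _root_.IsReduced ((pullback (FBase.bcStr f Ω) σ).presheaf.stalk t) :=
    isReduced_of_injective φ hφ.1
  exact isReduced_of_injective (π.stalkMap t).hom
    (H8Props.injective_of_flat_of_isLocalHom _ (Flat.stalkMap π t))

end Groth.Agent.H06Red
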