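import Mathlib

/-!
Associated primes of the tensor product of two field extensions (EGA IV 4.2.1).
-/

set_option autoImplicit false

universe u

open TensorProduct

namespace Groth.Agent.H06Red

variable {k : Type u} [Field k]

/-- Tensor product of a field with a field of fractions of a polynomial algebra is a domain. -/
theorem isDomain_tensor_purelyTranscendental (K F : Type u) [Field K] [Algebra k K] [Field F]
    [Algebra k F] {ι : Type u} (x : ι → F) (hx : AlgebraicIndependent k x)
    (htop : IntermediateField.adjoin k (Set.range x) = ⊤) : IsDomain (F ⊗[k] K) := by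
  let T := MvPolynomial ι k
  let φ : T →ₐ[k] F := MvPolynomial.aeval x
  let Φ : T ⊗[k] K →ₐ[k] F ⊗[k] K := Algebra.TensorProduct.map φ (AlgHom.id k K)
  have hΦ : Function.Injective Φ :=
    Module.Flat.rTensor_preserves_injective_linearMap (M := K) φ.toLinearMap hx
  have : IsDomain (T ⊗[k] K) :=
    ((MvPolynomial.algebraTensorAlgEquiv k K).injective.comp
      (Algebra.TensorProduct.comm k T K).injective).isDomain
      ((MvPolynomial.algebraTensorAlgEquiv (σ := ι) k K).toRingEquiv.toRingHom.comp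
        (Algebra.TensorProduct.comm k T K).toRingEquiv.toRingHom)
  have hfrac : ∀ w : F ⊗[k] K, ∃ p : T, φ p ≠ 0 ∧ ∃ w' : T ⊗[k] K, Φ w' = (φ p ⊗ₜ 1) * w := by
    intro w
    induction w using TensorProduct.induction_on with
    | zero => exact ⟨1, by simp, 0, by simp⟩
    | tmul a c =>
      have ha : a ∈ IntermediateField.adjoin k (Set.range x) := htop ▸ IntermediateField.mem_top
      obtain ⟨r, s, hrs⟩ := (IntermediateField.mem_adjoin_range_iff k x a).1 ha
      by_cases hs : φ s = 0
      · refine ⟨1, by simp, 0, ?_⟩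
        rw [show a = 0 by rw [hrs]; change φ r / φ s = 0; rw [hs, div_zero]]
        simp
      · refine ⟨s, hs, r ⊗ₜ c, ?_⟩
        simp only [Φ, Algebra.TensorProduct.map_tmul, AlgHom.id_apply,
          Algebra.TensorProduct.tmul_mul_tmul, one_mul]
        rw [show φ s * a = φ r by rw [hrs]; exact mul_div_cancel₀ _ hs]
    | add v w hv hw =>
      obtain ⟨p, hp, v', hv'⟩ := hv
      obtain ⟨q, hq, w', hw'⟩ := hw
      refine ⟨p * q, by simp [hp, hq], (q ⊗ₜ 1) * v' + (p ⊗ₜ 1) * w', ?_⟩
      have hpq : (φ (p * q) ⊗ₜ[k] (1 : K)) = (φ p ⊗ₜ 1) * (φ q ⊗ₜ 1) := by simp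
      rw [map_add, map_mul, map_mul, hv', hw', hpq]
      simp only [Φ, Algebra.TensorProduct.map_tmul, AlgHom.id_apply, mul_add]
      ring
  have hzero : ∀ (p : T) (w : F ⊗[k] K), φ p ≠ 0 → (φ p ⊗ₜ[k] (1 : K)) * w = 0 → w = 0 := by
    intro p w hp h
    have hu : ((φ p)⁻¹ ⊗ₜ[k] (1 : K)) * (φ p ⊗ₜ[k] (1 : K)) = 1 := by
      rw [Algebra.TensorProduct.tmul_mul_tmul, inv_mul_cancel₀ hp, one_mul,
        Algebra.TensorProduct.one_def]
    have h2 := congrArg (((φ p)⁻¹ ⊗ₜ[k] (1 : K)) * ·) h
    simpa [← mul_assoc, hu] using h2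
  haveI : NoZeroDivisors (F ⊗[k] K) := ⟨fun {a b} hab => by
    obtain ⟨p, hp, a', ha'⟩ := hfrac a
    obtain ⟨q, hq, b', hb'⟩ := hfrac b
    have : a' * b' = 0 := hΦ (by
      rw [map_mul, ha', hb', map_zero, mul_mul_mul_comm, hab, mul_zero])
    rcases mul_eq_zero.1 this with h | h
    · left; exact hzero p a hp (by rw [← ha', h, map_zero])
    · right; exact hzero q b hq (by rw [← hb', h, map_zero])⟩
  haveI : Nontrivial (F ⊗[k] K) := inferInstance
  exact NoZeroDivisors.to_isDomain _

/-- An algebra integral over a domain whose nonzero elements act regularly has no embedded primes. -/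
theorem associatedPrimes_subset_minimalPrimes {D A : Type u} [CommRing D] [IsDomain D] [CommRing A]
    [Algebra D A] [Algebra.IsIntegral D A]
    (hreg : ∀ d : D, d ≠ 0 → Function.Injective (fun a : A => algebraMap D A d * a)) :
    associatedPrimes A A ⊆ minimalPrimes A := by
  intro P hP
  obtain ⟨hPp, m, hm⟩ := hP
  have hcomap : P.comap (algebraMap D A) = ⊥ := by
    rw [eq_bot_iff]
    intro d hd
    by_contra hd0
    have hd0' : d ≠ 0 := hd0
    rw [Ideal.mem_comap, hm] at hd
    obtain ⟨n, hn⟩ := hd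
    rw [Submodule.mem_colon_singleton, Submodule.mem_bot, smul_eq_mul, ← map_pow] at hn
    have hm0 : m = 0 := hreg (d ^ n) (pow_ne_zero _ hd0') (by simpa using hn)
    have : (1 : A) ∈ P := by
      rw [hm]
      exact Ideal.le_radical (Submodule.mem_colon_singleton.2 (by simp [hm0]))
    exact hPp.ne_top ((Ideal.eq_top_iff_one _).2 this)
  refine ⟨⟨hPp, bot_le⟩, fun Q hQ hQP => ?_⟩
  haveI := hQ.1
  by_contra hne
  have hlt : Q < P := lt_of_le_not_ge hQP hne
  have := Ideal.IsIntegral.comap_lt_comap (R := D) hlt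
  rw [hcomap] at this
  exact not_lt_bot this

end Groth.Agent.H06Red
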